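import Mathlib
import Groth.Prelude.Def_FlatCA
import Groth.Agent.Lib.Helper3.ColimFlat11
import Groth.Agent.Lib.Helper3.FinDesc3

set_option linter.style.haveILetI false
set_option linter.unusedVariables false
set_option linter.unusedSectionVars false
set_option autoImplicit false
set_option backward.isDefEq.respectTransparency.types false
set_option synthInstance.maxHeartbeats 400000
set_option maxHeartbeats 800000

universe u

/-! helper7: helper7: descent of flatness along injective integral maps for finitely presented modules over polynomial rings (S6884) -/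

open TensorProduct Polynomial

namespace Groth.Agent.Helper7.IntFlat

section pair

variable (R₀ R S : Type u) [CommRing R₀] [CommRing R] [CommRing S] [Algebra R₀ R] [Algebra R₀ S]
  [Algebra R S] [IsScalarTower R₀ R S] [Algebra.IsIntegral R S]

/-- an element of `S` is integral over a subalgebra of `R` containing the coefficients of an
integral equation -/
theorem isIntegral_of_coeffs_mem (R₁ : Subalgebra R₀ R) (s : S) (p : R[X]) (hp : p.Monic)
    (hps : p.eval₂ (algebraMap R S) s = 0) (hc : ∀ k, p.coeff k ∈ R₁) : IsIntegral R₁ s := by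
  rcases subsingleton_or_nontrivial R with hR | hR
  · haveI : Subsingleton S := (algebraMap R S).codomain_trivial
    exact ⟨1, monic_one, Subsingleton.elim _ _⟩
  have hl : p ∈ Polynomial.lifts (algebraMap R₁ R) := by
    rw [Polynomial.lifts_iff_coeff_lifts]
    intro k
    exact ⟨⟨p.coeff k, hc k⟩, rfl⟩
  obtain ⟨q, hq, -, hqm⟩ := Polynomial.lifts_and_degree_eq_and_monic hl hp
  refine ⟨q, hqm, ?_⟩
  have h1 : algebraMap R₁ S = (algebraMap R S).comp (algebraMap R₁ R) := rfl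
  rw [h1, ← Polynomial.eval₂_map, hq]
  exact hps

/-- every finitely generated subalgebra of an integral extension is contained in one which is
finite over a finitely generated subalgebra of the base -/
theorem exists_finite_pair (T : Subalgebra R₀ S) (hT : T.FG) :
    ∃ (R₁ : Subalgebra R₀ R) (S₁ : Subalgebra R₀ S) (φ : R₁ →ₐ[R₀] S₁), R₁.FG ∧ S₁.FG ∧ T ≤ S₁ ∧
      (∀ x : R₁, ((φ x : S₁) : S) = algebraMap R S (x : R)) ∧ φ.toRingHom.Finite := by
  classical
  obtain ⟨t, ht⟩ := hT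
  choose p hpm hp0 using fun s : S => Algebra.IsIntegral.isIntegral (R := R) s
  let c : Finset R := t.biUnion fun s => (p s).coeffs
  let R₁ : Subalgebra R₀ R := Algebra.adjoin R₀ (c : Set R)
  have hR₁ : R₁.FG := ⟨c, rfl⟩
  let ψ : R →ₐ[R₀] S := IsScalarTower.toAlgHom R₀ R S
  let S₁ : Subalgebra R₀ S := T ⊔ R₁.map ψ
  have hS₁ : S₁.FG := Subalgebra.FG.sup ⟨t, ht⟩ (hR₁.map ψ)
  have hle : R₁.map ψ ≤ S₁ := le_sup_right
  let φ : R₁ →ₐ[R₀] S₁ := (ψ.comp R₁.val).codRestrict S₁ (fun x => hle ⟨x, x.2, rfl⟩)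
  refine ⟨R₁, S₁, φ, hR₁, hS₁, le_sup_left, fun x => rfl, ?_⟩
  -- integrality
  have hcoef : ∀ s ∈ t, ∀ k, (p s).coeff k ∈ R₁ := by
    intro s hs k
    by_cases h0 : (p s).coeff k = 0
    · rw [h0]; exact R₁.zero_mem
    · apply Algebra.subset_adjoin
      rw [Finset.mem_coe, Finset.mem_biUnion]
      exact ⟨s, hs, Polynomial.coeff_mem_coeffs h0⟩
  have hint : ∀ y ∈ S₁, IsIntegral R₁ y := by
    have hsub : S₁ ≤ (integralClosure R₁ S).restrictScalars R₀ := by
      refine sup_le ?_ ?_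
      · rw [← ht]
        refine Algebra.adjoin_le ?_
        intro s hs
        exact isIntegral_of_coeffs_mem R₀ R S R₁ s (p s) (hpm s) (hp0 s)
          (hcoef s (Finset.mem_coe.mp hs))
      · rintro _ ⟨x, hx, rfl⟩
        exact (isIntegral_algebraMap (R := R₁) (A := S) (x := ⟨x, hx⟩) :)
    intro y hy
    exact hsub hy
  letI : Algebra R₁ S₁ := φ.toRingHom.toAlgebra
  haveI : IsScalarTower R₀ R₁ S₁ := IsScalarTower.of_algebraMap_eq fun r => (φ.commutes r).symm
  haveI : IsScalarTower R₁ S₁ S := IsScalarTower.of_algebraMap_eq fun x => rfl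
  haveI : Algebra.FiniteType R₀ S₁ := (Subalgebra.fg_iff_finiteType S₁).mp hS₁
  haveI : Algebra.FiniteType R₁ S₁ := Algebra.FiniteType.of_restrictScalars_finiteType R₀ R₁ S₁
  haveI : Algebra.IsIntegral R₁ S₁ := ⟨fun y => by
    have h := hint y.1 y.2
    exact (isIntegral_algHom_iff (IsScalarTower.toAlgHom R₁ S₁ S)
      (fun a b hab => Subtype.ext hab)).mp h⟩
  show Module.Finite R₁ S₁
  exact Algebra.IsIntegral.finite

end pair

section descent

open Groth.Agent.Helper3.ColimFlat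

variable (R₀ R S : Type u) [CommRing R₀] [IsNoetherianRing R₀] [CommRing R] [CommRing S]
  [Algebra R₀ R] [Algebra R₀ S] [Algebra R S] [IsScalarTower R₀ R S] [Algebra.IsIntegral R S]

/-- flatness of a module defined over a Noetherian ring descends along an injective integral
ring map -/
theorem flat_of_flat_integral (hinj : Function.Injective (algebraMap R S))
    (B₀ : Type u) [CommRing B₀] [Algebra R₀ B₀] [Algebra.FiniteType R₀ B₀]
    (M₀ : Type u) [AddCommGroup M₀] [Module R₀ M₀] [Module B₀ M₀] [IsScalarTower R₀ B₀ M₀]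
    [Module.Finite B₀ M₀] [Module.Flat S (S ⊗[R₀] M₀)] : Module.Flat R (R ⊗[R₀] M₀) := by
  haveI : ∀ i : FGSub R₀ S, IsNoetherianRing ↥i.1 := isNoetherianRing_fgSub R₀ S
  obtain ⟨i₀, hi₀⟩ := exists_stage_flat (fun i : FGSub R₀ S => ↥i.1)
    (fun i j h => Subalgebra.inclusion (show i.1 ≤ j.1 from h)) S
    (isDirectedColimitRing_fgSub R₀ S) B₀ M₀
  obtain ⟨R₁, S₁, φ, hR₁, hS₁, hle, hφ, hfin⟩ := exists_finite_pair R₀ R S i₀.1 i₀.2
  haveI hfl : Module.Flat ↥S₁ (↥S₁ ⊗[R₀] M₀) := hi₀ ⟨S₁, hS₁⟩ hle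
  haveI : IsNoetherianRing ↥R₁ := isNoetherianRing_fgSub R₀ R ⟨R₁, hR₁⟩
  letI : Algebra R₁ S₁ := φ.toRingHom.toAlgebra
  haveI : IsScalarTower R₀ R₁ S₁ := IsScalarTower.of_algebraMap_eq fun r => (φ.commutes r).symm
  haveI : Module.Finite R₁ S₁ := hfin
  have hinjφ : Function.Injective (algebraMap R₁ S₁) := by
    intro a b hab
    have h1 : ((φ a : S₁) : S) = ((φ b : S₁) : S) := congrArg Subtype.val hab
    rw [hφ, hφ] at h1
    exact Subtype.ext (hinj h1)
  haveI : Module.Flat ↥S₁ (↥S₁ ⊗[↥R₁] (↥R₁ ⊗[R₀] M₀)) :=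
    Module.Flat.of_linearEquiv (AlgebraTensorModule.cancelBaseChange R₀ ↥R₁ ↥S₁ ↥S₁ M₀)
  haveI : Module.Flat ↥R₁ (↥R₁ ⊗[R₀] M₀) :=
    Groth.Agent.Helper3.FinDesc.main_S6883 ↥R₁ ↥S₁ hinjφ (↥R₁ ⊗[R₀] M₀)
  exact Module.Flat.of_linearEquiv (AlgebraTensorModule.cancelBaseChange R₀ ↥R₁ R R M₀).symm

end descent

section main

open Groth.Agent.Helper3.ColimFlat

/-- **Descent of flatness along an injective integral ring map for finitely presented modules
over polynomial rings.** -/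
theorem S6884_main (R S : Type u) [CommRing R] [CommRing S] [Algebra R S]
    [Algebra.IsIntegral R S] (hinj : Function.Injective (algebraMap R S)) (n : ℕ)
    (M : Type u) [AddCommGroup M] [Module (MvPolynomial (Fin n) R) M] [Module R M]
    [IsScalarTower R (MvPolynomial (Fin n) R) M]
    [Module.FinitePresentation (MvPolynomial (Fin n) R) M]
    [Module.Flat S (S ⊗[R] M)] : Module.Flat R M := by
  obtain ⟨R₂, hR₂, S₂, _, _, _, _, M₂, _, _, _, _, h₃, hfp, hfin, hpush, hbc⟩ :=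
    exists_model R (MvPolynomial (Fin n) R) M
  haveI : Algebra.FiniteType ℤ R₂ := (Subalgebra.fg_iff_finiteType R₂).mp hR₂
  haveI : IsNoetherianRing R₂ := Algebra.FiniteType.isNoetherianRing ℤ R₂
  letI : Module R₂ M₂ := Module.compHom M₂ (algebraMap R₂ S₂)
  haveI : IsScalarTower R₂ S₂ M₂ := IsScalarTower.of_compHom _ _ _
  haveI := hfp
  haveI := hfin
  haveI := hpush
  let e₁ : (MvPolynomial (Fin n) R) ⊗[S₂] M₂ ≃ₗ[MvPolynomial (Fin n) R] M := hbc.equiv
  let e₂ : (MvPolynomial (Fin n) R) ⊗[S₂] M₂ ≃ₗ[R] R ⊗[R₂] M₂ :=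
    Algebra.IsPushout.cancelBaseChange R₂ R S₂ (MvPolynomial (Fin n) R) M₂
  let e : R ⊗[R₂] M₂ ≃ₗ[R] M := e₂.symm ≪≫ₗ (e₁.restrictScalars R)
  haveI : IsScalarTower R₂ R S := IsScalarTower.of_algebraMap_eq fun x => rfl
  haveI : Module.Flat S (S ⊗[R₂] M₂) := by
    let e₃ : S ⊗[R] (R ⊗[R₂] M₂) ≃ₗ[S] S ⊗[R₂] M₂ :=
      AlgebraTensorModule.cancelBaseChange R₂ R S S M₂
    let e₄ : S ⊗[R] (R ⊗[R₂] M₂) ≃ₗ[S] S ⊗[R] M :=
      AlgebraTensorModule.congr (LinearEquiv.refl S S) e
    exact Module.Flat.of_linearEquiv (e₃.symm ≪≫ₗ e₄)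
  haveI : Algebra.FiniteType R₂ S₂ := inferInstance
  haveI := flat_of_flat_integral R₂ R S hinj S₂ M₂
  exact Module.Flat.of_linearEquiv e.symm

end main

end Groth.Agent.Helper7.IntFlat
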